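import Groth.Agent.DoubleCoverLib.Splitting
import Groth.Agent.AVLib.GeomInt
import Groth.Agent.VBLib.Regular

/-!
# Line bundles of degree at most zero on a curve of genus one
-/

set_option autoImplicit false
set_option backward.isDefEq.respectTransparency false
set_option linter.style.haveILetI false
set_option linter.unusedSectionVars false
set_option maxHeartbeats 1000000

universe u

open CategoryTheory CategoryTheory.Limits AlgebraicGeometry
open Curves

noncomputable section

namespace Groth.Agent.DoubleCoverLib

variable {k : Type u} [Field k] {E : Scheme.{u}} [E.Over (Spec (CommRingCat.of k))]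
  [IsProper (E ↘ Spec (CommRingCat.of k))] [IsIntegral E] (hdim : topologicalKrullDim E = 1)

include hdim in
theorem finrank_H0_eq_zero {M : E.Modules} (hM : PicF.IsInvertible M) (hneg : Curv2.deg k E M 1 < 0) :
    Module.finrank k (Coh.HH E M 0) = 0 := by
  rcases subsingleton_or_nontrivial (Coh.HH E M 0) with h | h
  · haveI := h
    exact Module.finrank_zero_of_subsingleton
  · exact absurd (CurveFF.deg_nonneg_of_section hdim hM h) (not_le.2 hneg)

include hdim in
theorem nonempty_iso_O {M : E.Modules} (hM : PicF.IsInvertible M) (h0 : Curv2.deg k E M 1 = 0)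
    (hs : Module.finrank k (Coh.HH E M 0) ≠ 0) : Nonempty (M ≅ Coh.structureModule E) := by
  haveI : Nontrivial (Coh.HH E M 0) := (subsingleton_or_nontrivial (Coh.HH E M 0)).resolve_left fun h => hs
    (haveI := h; Module.finrank_zero_of_subsingleton)
  obtain ⟨s, hs'⟩ := CurveLib.exists_hom_ne_zero M
  haveI : IsIso s := (CurveLib.deg_le_of_ne_zero (k := k) hdim.le ParaFLib.isInvertible_structureModule hM hs').2
    (by rw [CurveLib.deg_structureModule, h0])
  exact ⟨(asIso s).symm⟩

end Groth.Agent.DoubleCoverLib
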