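import Groth.Prelude.Def_CurvBase
import Groth.Agent.S7797
import Groth.Agent.S1536
import Groth.Agent.IntLib.Push
import Groth.Agent.FinCovLib.Cover
import Groth.Agent.DCohMore.FinPushRes
import Groth.Agent.DeltaBCLib.DegBirat
import Groth.Agent.K0PnLib.Euler
import Groth.Agent.HodgePnLib.EndTriv
import Groth.Agent.HodgePnLib.Field
import Groth.Agent.CurveP1Lib.SimplyConnected
import Groth.Agent.CurveFF.Sections
import Groth.Agent.CurveLib.DegTensor
import Groth.Agent.VBLib.TwistH0
import Groth.Agent.VBLib.WeilFinite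
import Groth.Agent.CompleteCurve.ProjSpace
import Groth.Agent.REqLib.P1Irred
import Groth.Agent.BCLib.TensorQCoh
import Groth.Agent.InvExt.Main
import Groth.Agent.AmpleLib.Pullback

/-!
# Direct images along double covers of the line by curves of genus one
-/

set_option autoImplicit false
set_option backward.isDefEq.respectTransparency false
set_option linter.style.haveILetI false
set_option linter.unusedSectionVars false
set_option maxHeartbeats 1000000

universe u

open CategoryTheory CategoryTheory.Limits AlgebraicGeometry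
open Curves

noncomputable section

namespace Groth.Agent.DoubleCoverLib

variable {k : Type u} [Field k]

local notation "P1" => CohB1.ProjSpace 1 k
local notation "O(" d ")" => Twist.twistProjSpace 1 k d

variable (k) in
theorem isInvertible_O (d : ℤ) : PicF.IsInvertible (O(d)) := HodgePnLib.isInvertible_O 1 k d

theorem euler_P1_O : Curv2.euler k P1 (Coh.structureModule P1) = 1 := by
  rw [← CurveLib.euler_iso (K := k) (DCohMore.TwistFam.projMulZero 1 k)]
  refine (CMRegLib.euler_twist (n := 1) one_pos 0).trans ?_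
  simp [Ring.choose_one_right']

theorem deg_O (d : ℤ) : Curv2.deg k P1 (O(d)) 1 = d := by
  rw [Curv2.deg, CMRegLib.euler_twist (n := 1) one_pos, euler_P1_O]
  simp [Ring.choose_one_right']

variable {E : Scheme.{u}} [E.Over (Spec (CommRingCat.of k))] (π : E ⟶ CohB1.ProjSpace 1 k)

/-- A sum of line bundles on the line after twisting. -/
theorem sum_data {r : ℕ} (a : Fin r → ℤ) {F : (P1).Modules} (e : F ≅ ∐ fun j : Fin r => O(a j))
    (hF : FlatMod.IsFinLocFreeOfRank r F) (t : ℤ) :
    Curv2.euler k P1 (CohB1.tensorMod F (O(t))) = (∑ j, (a j + 1)) + r * t ∧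
      Module.finrank k (Coh.HH P1 (CohB1.tensorMod F (O(t))) 0) = ∑ j, if 0 ≤ a j + t then (a j + t).toNat + 1 else 0 := by
  haveI : IsProper (P1 ↘ Spec (CommRingCat.of k)) := CompleteCurve.isProper_toSpec 1 k
  haveI : IsIntegral P1 := REqLib.isIntegral_projSpace 1 k
  have hd : topologicalKrullDim P1 ≤ 1 := le_of_eq (by exact_mod_cast Groth.Agent.S10829.result k 1)
  refine ⟨?_, ?_⟩
  · refine (CurveLib.euler_tensor_invertible (k := k) hd hF (isInvertible_O k t)).trans ?_
    rw [deg_O, CurveLib.euler_iso (K := k) e, HodgePnLib.euler_sigma_O]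
  · have hone : ∀ j, Module.finrank k (Coh.HH P1 ((CurveLib.tensR (O(t))).obj (O(a j))) 0) =
        if 0 ≤ a j + t then (a j + t).toNat + 1 else 0 := fun j => by
      refine (VBLib.TwistH0.finrank_iso k (K0PnLib.twistAddIso k 1 rfl :
        (CurveLib.tensR (O(t))).obj (O(a j)) ≅ O(a j + t)) 0).trans ?_
      rw [HodgePnLib.finrank_O0 1 k (a j + t) one_pos]
      split_ifs <;> simp [Nat.choose_one_right, add_comm]
    have hfin : ∀ j, Module.Finite k (Coh.HH P1 ((CurveLib.tensR (O(t))).obj (O(a j))) 0) := fun j => by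
      haveI := HodgePnLib.finite_O 1 k (a j + t) 0
      exact Module.Finite.equiv (LinearEquiv.ofBijective _ (CurveLib.hMap_bijective_iso (k := k)
        (K0PnLib.twistAddIso k 1 rfl : (CurveLib.tensR (O(t))).obj (O(a j)) ≅ O(a j + t)) 0)).symm
    refine (VBLib.TwistH0.finrank_iso k (AmpleLib.tIso e (Iso.refl (O(t)))) 0).trans ?_
    exact ((VBLib.WeilFinite.finrank_sigma_tens k (O(t)) (fun j => O(a j)) 0 hfin).2).trans (Finset.sum_congr rfl fun j _ => hone j)

variable (hπ : π ≫ CohB1.ProjSpace.toSpec 1 k = E ↘ Spec (CommRingCat.of k)) [IsAffineHom π]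

include hπ in
/-- Cohomology upstairs of a twist by a pullback from the line. -/
theorem push_data {r : ℕ} (a : Fin r → ℤ) {M : E.Modules} (hM : Coh.IsQCoh M)
    (hF : FlatMod.IsFinLocFreeOfRank r ((Scheme.Modules.pushforward π).obj M))
    (e : (Scheme.Modules.pushforward π).obj M ≅ ∐ fun j : Fin r => O(a j)) (t : ℤ) :
    Curv2.euler k E (CohB1.tensorMod M ((Scheme.Modules.pullback π).obj (O(t)))) = (∑ j, (a j + 1)) + r * t ∧
      Module.finrank k (Coh.HH E (CohB1.tensorMod M ((Scheme.Modules.pullback π).obj (O(t)))) 0) =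
        ∑ j, if 0 ≤ a j + t then (a j + t).toNat + 1 else 0 := by
  have ht := CurveLib.isFinLocFreeOfRank_one (isInvertible_O k t)
  have hflf : FlatMod.IsFinLocFree (O(t)) := fun x => by
    obtain ⟨U, hx, hU⟩ := ht x
    exact ⟨U, 1, hx, hU⟩
  haveI := hM
  haveI : Coh.IsQCoh ((Scheme.Modules.pullback π).obj (O(t))) :=
    InvExt.isQCoh_of_isInvertible (AmpleLib.isInvertible_pullback π (isInvertible_O k t))
  haveI : Coh.IsQCoh (CohB1.tensorMod M ((Scheme.Modules.pullback π).obj (O(t)))) := BCLib.isQCoh_tensorMod _ _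
  obtain ⟨p⟩ := DeltaBC.nonempty_proj_iso π hflf M
  haveI : Coh.IsQCoh (DCohLib.tmod M ((Scheme.Modules.pullback π).obj (O(t)))) :=
    BCLib.isQCoh_tensorMod M ((Scheme.Modules.pullback π).obj (O(t)))
  obtain ⟨h1, h2⟩ := sum_data a e hF t
  refine ⟨?_, ?_⟩
  · exact ((IntLib.euler_push k π hπ _).symm.trans (CurveLib.euler_iso (K := k) p).symm).trans h1
  · exact ((IntLib.finrank_push k π hπ _ 0).symm.trans (VBLib.TwistH0.finrank_iso k p 0).symm).trans h2

end Groth.Agent.DoubleCoverLib
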